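import Cfsg.Agent.Helper71.BSW.DefsCT
import Cfsg.Agent.Helper79.CharComplete

/-!
# Brauer–Suzuki–Wall, abstract form (S3282): piece (S3) — shape (B) is impossible (helper90)

`s_refute_B`: the second output of the lattice argument (`ShapeB`, only conceivable for `|K| = 6`)
contradicts the facts `FactsT` about the generalized characters `theta K μ`.

Sketch.  Put `τ = t ∈ K` and `b μ = μ τ ∈ {1, -1}`.  The dual of `K` is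
`{1, σ, ν₁, ν₁⁻¹, ν₂, ν₂⁻¹}`, so `sum_dual` gives `1 + b σ + 2 b ν₁ + 2 b ν₂ = 0`, whence
`b σ = -1` and `b ν₂ = - b ν₁`.  By `irr_apply_K`, `(Λ νᵢ) t = δ (b σ + 2 b νᵢ)`, so the two squares
`(Λ ν₁ t) ^ 2`, `(Λ ν₂ t) ^ 2` are `1` and `9` in some order.  By `theta_one`/`theta_expand` the two
degrees `(Λ νᵢ) 1` agree (`= X 1 + δ`) and they are non-zero; `F_const` for `ν₁` and `ν₂` then
forces the two squares to be equal: contradiction.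
-/

set_option autoImplicit false

namespace Cfsg.Agent.Helper90.BSW

open Cfsg Cfsg.Agent.Helper71.BSW

/-- Summing against a Kronecker delta (delta first). -/
theorem sum_ind_mul {α : Type*} [Fintype α] (A : α) (f : α → ℂ) :
    ∑ χ : α, ind χ A * f χ = f A := by
  classical
  rw [Finset.sum_eq_single A]
  · rw [ind_self, one_mul]
  · intro b _ hb
    rw [ind_of_ne hb, zero_mul]
  · intro hA
    exact absurd (Finset.mem_univ A) hA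

/-- Summing a function over a six-element type listed explicitly. -/
theorem sum_six {α : Type*} [Fintype α] {a₁ a₂ a₃ a₄ a₅ a₆ : α}
    (hall : ∀ x : α, x = a₁ ∨ x = a₂ ∨ x = a₃ ∨ x = a₄ ∨ x = a₅ ∨ x = a₆)
    (h12 : a₁ ≠ a₂) (h13 : a₁ ≠ a₃) (h14 : a₁ ≠ a₄) (h15 : a₁ ≠ a₅) (h16 : a₁ ≠ a₆)
    (h23 : a₂ ≠ a₃) (h24 : a₂ ≠ a₄) (h25 : a₂ ≠ a₅) (h26 : a₂ ≠ a₆)
    (h34 : a₃ ≠ a₄) (h35 : a₃ ≠ a₅) (h36 : a₃ ≠ a₆)
    (h45 : a₄ ≠ a₅) (h46 : a₄ ≠ a₆) (h56 : a₅ ≠ a₆) (f : α → ℂ) :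
    ∑ x : α, f x = f a₁ + f a₂ + f a₃ + f a₄ + f a₅ + f a₆ := by
  classical
  have huniv : (Finset.univ : Finset α) = {a₁, a₂, a₃, a₄, a₅, a₆} := by
    ext x
    simp only [Finset.mem_univ, Finset.mem_insert, Finset.mem_singleton, true_iff]
    exact hall x
  rw [huniv, Finset.sum_insert, Finset.sum_insert, Finset.sum_insert, Finset.sum_insert,
    Finset.sum_insert, Finset.sum_singleton]
  · ring
  all_goals
    simp [h12, h13, h14, h15, h16, h23, h24, h25, h26, h34, h35, h36, h45, h46, h56]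

/-- The arithmetic core of the refutation of shape (B). -/
theorem refute_arith {a b₁ b₂ d L₁ L₂ m : ℂ} (haa : a * a = 1) (hb11 : b₁ * b₁ = 1)
    (hb22 : b₂ * b₂ = 1) (hsum : 1 + a + 2 * b₁ + 2 * b₂ = 0) (hdd : d * d = 1)
    (hL₁ : L₁ = d * (a + 2 * b₁)) (hL₂ : L₂ = d * (a + 2 * b₂)) (hm0 : m ≠ 0)
    (hF : d * (L₁ ^ 2 / m) = d * (L₂ ^ 2 / m)) : False := by
  have hd0 : d ≠ 0 := by
    intro h0
    rw [h0, zero_mul] at hdd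
    exact zero_ne_one hdd
  have hab : a = -1 ∧ b₂ = -b₁ := by
    rcases mul_self_eq_one_iff.mp haa with h1 | h1 <;>
    rcases mul_self_eq_one_iff.mp hb11 with h2 | h2 <;>
    rcases mul_self_eq_one_iff.mp hb22 with h3 | h3 <;>
    rw [h1, h2, h3] at hsum ⊢ <;>
    first
      | (exfalso; norm_num at hsum; done)
      | (constructor <;> norm_num)
  obtain ⟨ha1, hb21⟩ := hab
  have h5 := mul_left_cancel₀ hd0 hF
  rw [div_left_inj' hm0, hL₁, hL₂, ha1, hb21] at h5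
  have h6 : d * d * (8 * b₁) = 0 := by
    linear_combination -h5
  rw [hdd, one_mul] at h6
  have h7 : b₁ = 0 := by
    have h8 : (8 : ℂ) ≠ 0 := by norm_num
    exact (mul_eq_zero.mp h6).resolve_left h8
  rw [h7, mul_zero] at hb11
  exact zero_ne_one hb11

theorem s_refute_B {G : Type*} [Group G] [Fintype G] [Fintype (IrrCharacter G)] {t s : G} {K : Subgroup G}
    [Fintype ↥K] [Fintype (↥K →* ℂˣ)]
    (h : Hyp t s K) (T : FactsT t s K) {triv : IrrCharacter G} {σ : K →* ℂˣ} {δ : ℤ}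
    {X : IrrCharacter G} {Λ : (K →* ℂˣ) → IrrCharacter G} {C : IrrCharacter G} {ε : ℤ}
    {ν₁ ν₂ : K →* ℂˣ} (SB : ShapeB K triv σ δ X Λ C ε ν₁ ν₂) : False := by
  classical
  -- the involution `τ = t` of `K`
  have ht1 : t ≠ 1 := by
    intro h1
    have h2 := h.ht
    rw [h1, orderOf_one] at h2
    omega
  have htt : t * t = 1 := by
    have h2 := pow_orderOf_eq_one t
    rw [h.ht, pow_two] at h2
    exact h2
  obtain ⟨τ, hτt⟩ : ∃ τ : K, (τ : G) = t := ⟨⟨t, h.htK⟩, rfl⟩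
  have hτG : (τ : G) ≠ 1 := by
    rw [hτt]
    exact ht1
  have hτ1 : τ ≠ 1 := by
    intro h1
    apply hτG
    rw [h1]
    rfl
  have hττ : τ * τ = 1 := by
    apply Subtype.ext
    rw [Subgroup.coe_mul, hτt, htt]
    rfl
  -- the values `μ τ`
  have hbu : ∀ μ : K →* ℂˣ, μ τ * μ τ = 1 := by
    intro μ
    rw [← map_mul, hττ, map_one]
  have hb_sq : ∀ μ : K →* ℂˣ, ((μ τ : ℂˣ) : ℂ) * ((μ τ : ℂˣ) : ℂ) = 1 := by
    intro μ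
    rw [← Units.val_mul, hbu μ, Units.val_one]
  have hb_inv : ∀ μ : K →* ℂˣ, ((μ⁻¹ τ : ℂˣ) : ℂ) = ((μ τ : ℂˣ) : ℂ) := by
    intro μ
    rw [MonoidHom.inv_apply, inv_eq_of_mul_eq_one_right (hbu μ)]
  have hb_one : (((1 : K →* ℂˣ) τ : ℂˣ) : ℂ) = 1 := by
    rw [MonoidHom.one_apply, Units.val_one]
  -- the six elements of the dual
  obtain ⟨hν1, hν1σ, hν2, hν2σ, hν12, hν12'⟩ := SB.hν
  have hν1i : ν₁⁻¹ ≠ 1 := fun hh => hν1 ((inv_eq_one (a := ν₁)).mp hh)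
  have hν2i : ν₂⁻¹ ≠ 1 := fun hh => hν2 ((inv_eq_one (a := ν₂)).mp hh)
  have hν1iσ : ν₁⁻¹ ≠ σ := by
    intro hh
    apply hν1σ
    rw [← inv_inv ν₁, hh, SB.hσ]
  have hν2iσ : ν₂⁻¹ ≠ σ := by
    intro hh
    apply hν2σ
    rw [← inv_inv ν₂, hh, SB.hσ]
  have hν1ii : ν₁ ≠ ν₁⁻¹ := fun hh => hν1σ (SB.hσu ν₁ hν1 hh.symm)
  have hν2ii : ν₂ ≠ ν₂⁻¹ := fun hh => hν2σ (SB.hσu ν₂ hν2 hh.symm)
  have hν1i2 : ν₁⁻¹ ≠ ν₂ := by
    intro hh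
    apply hν12'
    rw [← hh, inv_inv ν₁]
  have hν1i2i : ν₁⁻¹ ≠ ν₂⁻¹ := fun hh => hν12 (inv_injective hh)
  have hsix : ∀ f : (K →* ℂˣ) → ℂ,
      ∑ μ : K →* ℂˣ, f μ = f 1 + f σ + f ν₁ + f ν₁⁻¹ + f ν₂ + f ν₂⁻¹ := by
    intro f
    refine sum_six ?_ (Ne.symm SB.hσ1) (Ne.symm hν1) (Ne.symm hν1i) (Ne.symm hν2) (Ne.symm hν2i)
      (Ne.symm hν1σ) (Ne.symm hν1iσ) (Ne.symm hν2σ) (Ne.symm hν2iσ) hν1ii hν12 hν12' hν1i2 hν1i2i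
      hν2ii f
    intro μ
    by_cases h1 : μ = 1
    · exact Or.inl h1
    by_cases h2 : μ = σ
    · exact Or.inr (Or.inl h2)
    exact Or.inr (Or.inr (SB.hall μ h1 h2))
  -- `δ` is a sign
  have hδδ : (δ : ℂ) * (δ : ℂ) = 1 := by
    rcases SB.hδ with hd | hd <;> rw [hd] <;> norm_num
  -- Step A: the relation among the values of `σ`, `ν₁`, `ν₂` at `τ`
  have hsum : 1 + ((σ τ : ℂˣ) : ℂ) + 2 * ((ν₁ τ : ℂˣ) : ℂ) + 2 * ((ν₂ τ : ℂˣ) : ℂ) = 0 := by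
    have h0 := T.sum_dual τ hτ1
    rw [hsix (fun μ => ((μ τ : ℂˣ) : ℂ))] at h0
    simp only [hb_inv, hb_one] at h0
    linear_combination h0
  -- coefficient values
  obtain ⟨hΛ12, hΛ1t, hΛ2t, hΛ1X, hΛ2X, hΛ1i, hΛ2i⟩ := SB.Λ_ne
  obtain ⟨hCt, hCX, hCΛ1, hCΛ2⟩ := SB.C_ne
  have c_ν1_Λ1 : coef K ν₁ (Λ ν₁) = -δ := by
    rw [SB.coef_nonreal ν₁ hν1 hν1σ, ind_of_ne hΛ1t, ind_of_ne hΛ1X, ind_self]
    ring
  have c_ν2_Λ1 : coef K ν₂ (Λ ν₁) = 0 := by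
    rw [SB.coef_nonreal ν₂ hν2 hν2σ, ind_of_ne hΛ1t, ind_of_ne hΛ1X, ind_of_ne hΛ12]
    ring
  have c_σ_Λ1 : coef K σ (Λ ν₁) = -δ := by
    rw [SB.coef_sigma, ind_of_ne hΛ1t, ind_self, ind_of_ne hΛ12, ind_of_ne (Ne.symm hCΛ1)]
    ring
  have c_ν1_Λ2 : coef K ν₁ (Λ ν₂) = 0 := by
    rw [SB.coef_nonreal ν₁ hν1 hν1σ, ind_of_ne hΛ2t, ind_of_ne hΛ2X, ind_of_ne (Ne.symm hΛ12)]
    ring
  have c_ν2_Λ2 : coef K ν₂ (Λ ν₂) = -δ := by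
    rw [SB.coef_nonreal ν₂ hν2 hν2σ, ind_of_ne hΛ2t, ind_of_ne hΛ2X, ind_self]
    ring
  have c_σ_Λ2 : coef K σ (Λ ν₂) = -δ := by
    rw [SB.coef_sigma, ind_of_ne hΛ2t, ind_of_ne (Ne.symm hΛ12), ind_self,
      ind_of_ne (Ne.symm hCΛ2)]
    ring
  -- Step B: the values of the irreducible characters at `t`
  have hval : ∀ χ : IrrCharacter G, (χ : G → ℂ) t =
      -(coef K σ χ * ((σ τ : ℂˣ) : ℂ) + 2 * coef K ν₁ χ * ((ν₁ τ : ℂˣ) : ℂ)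
        + 2 * coef K ν₂ χ * ((ν₂ τ : ℂˣ) : ℂ)) := by
    intro χ
    have h0 := T.irr_apply_K χ τ hτG
    rw [hsix (fun μ => (1 - ind μ 1) * coef K μ χ * ((μ τ : ℂˣ) : ℂ))] at h0
    simp only [hb_inv, T.coef_inv, ind_self, ind_of_ne SB.hσ1, ind_of_ne hν1, ind_of_ne hν1i,
      ind_of_ne hν2, ind_of_ne hν2i] at h0
    rw [hτt] at h0
    rw [h0]
    ring
  have hΛ1val : (Λ ν₁ : G → ℂ) t =
      δ * (((σ τ : ℂˣ) : ℂ) + 2 * ((ν₁ τ : ℂˣ) : ℂ)) := by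
    rw [hval, c_σ_Λ1, c_ν1_Λ1, c_ν2_Λ1]
    ring
  have hΛ2val : (Λ ν₂ : G → ℂ) t =
      δ * (((σ τ : ℂˣ) : ℂ) + 2 * ((ν₂ τ : ℂˣ) : ℂ)) := by
    rw [hval, c_σ_Λ2, c_ν1_Λ2, c_ν2_Λ2]
    ring
  -- Step C: the degrees
  have hexp : ∀ μ : K →* ℂˣ, μ ≠ 1 → μ ≠ σ → ∀ f : IrrCharacter G → ℂ,
      ∑ χ : IrrCharacter G, coef K μ χ * f χ = f triv + δ * f X - δ * f (Λ μ) := by
    intro μ h1 h2 f
    simp only [SB.coef_nonreal μ h1 h2, add_mul, sub_mul, mul_assoc, Finset.sum_add_distrib,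
      Finset.sum_sub_distrib, ← Finset.mul_sum, sum_ind_mul]
  have hdeg : ∀ μ : K →* ℂˣ, μ ≠ 1 → μ ≠ σ → (Λ μ : G → ℂ) 1 = (X : G → ℂ) 1 + δ := by
    intro μ h1 h2
    have h0 := T.theta_expand μ 1
    rw [T.theta_one μ, hexp μ h1 h2 (fun χ => (χ : G → ℂ) 1), SB.triv_apply] at h0
    have h3 : (δ : ℂ) * (Λ μ : G → ℂ) 1 = 1 + δ * (X : G → ℂ) 1 := by
      linear_combination h0
    calc (Λ μ : G → ℂ) 1 = (δ : ℂ) * (δ : ℂ) * (Λ μ : G → ℂ) 1 := by rw [hδδ, one_mul]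
      _ = δ * (1 + δ * (X : G → ℂ) 1) := by rw [mul_assoc, h3]
      _ = (δ : ℂ) * (δ : ℂ) * (X : G → ℂ) 1 + δ := by ring
      _ = (X : G → ℂ) 1 + δ := by rw [hδδ, one_mul]
  have hm1 := hdeg ν₁ hν1 hν1σ
  have hm2 := hdeg ν₂ hν2 hν2σ
  have hm0 : (Λ ν₁ : G → ℂ) 1 ≠ 0 := Cfsg.Agent.Helper79.irr_one_ne_zero (Λ ν₁)
  -- Step D: `F_const`
  have hF : ∀ μ : K →* ℂˣ, μ ≠ 1 → μ ≠ σ →
      (triv : G → ℂ) t ^ 2 / (triv : G → ℂ) 1 + δ * ((X : G → ℂ) t ^ 2 / (X : G → ℂ) 1)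
        - δ * ((Λ μ : G → ℂ) t ^ 2 / (Λ μ : G → ℂ) 1) =
      4 * (Nat.card K : ℂ) ^ 3 / (Nat.card G : ℂ) := by
    intro μ h1 h2
    rw [← T.F_const μ h1, ← hexp μ h1 h2 (fun χ => (χ : G → ℂ) t ^ 2 / (χ : G → ℂ) 1)]
    exact Finset.sum_congr rfl (fun χ _ => mul_comm _ _)
  have hF1 := hF ν₁ hν1 hν1σ
  have hF2 := hF ν₂ hν2 hν2σ
  rw [← hF2, hm2, ← hm1] at hF1
  have h4 : (δ : ℂ) * ((Λ ν₁ : G → ℂ) t ^ 2 / (Λ ν₁ : G → ℂ) 1) =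
      δ * ((Λ ν₂ : G → ℂ) t ^ 2 / (Λ ν₁ : G → ℂ) 1) := by
    linear_combination -hF1
  exact refute_arith (hb_sq σ) (hb_sq ν₁) (hb_sq ν₂) hsum hδδ hΛ1val hΛ2val hm0 h4

end Cfsg.Agent.Helper90.BSW
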