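import Mathlib
import Cfsg.Agent.Helper71.BSW.DefsCT

set_option autoImplicit false

/-!
Piece (T7) of the abstract Brauer-Suzuki-Wall theorem (architect helper71): orthogonality relations
for the dual group of a finite abelian group.
-/

namespace Cfsg.Agent.Helper90.BSW

open Cfsg Cfsg.Agent.Helper71.BSW

section general

variable {A : Type*} [Group A] [Finite A]

/-- separation of points by linear characters -/
theorem exists_char_ne_one (hab : ∀ a b : A, a * b = b * a) {a : A} (ha : a ≠ 1) :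
    ∃ φ : A →* ℂˣ, φ a ≠ 1 := by
  letI : CommGroup A := { ‹Group A› with mul_comm := hab }
  haveI : NeZero ((Monoid.exponent A : ℕ) : ℂ) :=
    ⟨by exact_mod_cast Monoid.exponent_ne_zero_of_finite⟩
  exact CommGroup.exists_apply_ne_one_of_hasEnoughRootsOfUnity A ℂ ha

theorem card_dual_eq (hab : ∀ a b : A, a * b = b * a) : Nat.card (A →* ℂˣ) = Nat.card A := by
  letI : CommGroup A := { ‹Group A› with mul_comm := hab }
  haveI : NeZero ((Monoid.exponent A : ℕ) : ℂ) :=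
    ⟨by exact_mod_cast Monoid.exponent_ne_zero_of_finite⟩
  exact CommGroup.card_monoidHom_of_hasEnoughRootsOfUnity A ℂ

/-- the sum of a non-trivial linear character over the group vanishes -/
theorem sum_char_eq_zero [Fintype A] {μ : A →* ℂˣ} (hμ : μ ≠ 1) :
    ∑ y : A, ((μ y : ℂˣ) : ℂ) = 0 := by
  obtain ⟨y₀, hy₀⟩ : ∃ y₀, μ y₀ ≠ 1 := by
    by_contra hcon
    push_neg at hcon
    exact hμ (MonoidHom.ext fun y => by rw [hcon y]; rfl)
  have h1 : ((μ y₀ : ℂˣ) : ℂ) * ∑ y : A, ((μ y : ℂˣ) : ℂ) = ∑ y : A, ((μ y : ℂˣ) : ℂ) := by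
    rw [Finset.mul_sum]
    rw [← Equiv.sum_comp (Equiv.mulLeft y₀) fun y => ((μ y : ℂˣ) : ℂ)]
    refine Finset.sum_congr rfl fun y _ => ?_
    rw [Equiv.coe_mulLeft, map_mul, Units.val_mul]
  have h2 : ((μ y₀ : ℂˣ) : ℂ) ≠ 1 := by
    intro h
    exact hy₀ (Units.ext h)
  have h3 : (((μ y₀ : ℂˣ) : ℂ) - 1) * ∑ y : A, ((μ y : ℂˣ) : ℂ) = 0 := by
    rw [sub_mul, h1, one_mul, sub_self]
  rcases mul_eq_zero.mp h3 with h | h
  · exact absurd (sub_eq_zero.mp h) h2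
  · exact h

/-- the sum of the values of all linear characters at a non-trivial element vanishes -/
theorem sum_dual_eq_zero (hab : ∀ a b : A, a * b = b * a) [Fintype (A →* ℂˣ)] {y : A}
    (hy : y ≠ 1) : ∑ μ : A →* ℂˣ, ((μ y : ℂˣ) : ℂ) = 0 := by
  obtain ⟨φ, hφ⟩ := exists_char_ne_one hab hy
  have h1 : ((φ y : ℂˣ) : ℂ) * ∑ μ : A →* ℂˣ, ((μ y : ℂˣ) : ℂ) =
      ∑ μ : A →* ℂˣ, ((μ y : ℂˣ) : ℂ) := by
    rw [Finset.mul_sum]
    rw [← Equiv.sum_comp (Equiv.mulLeft φ) fun μ : A →* ℂˣ => ((μ y : ℂˣ) : ℂ)]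
    refine Finset.sum_congr rfl fun μ _ => ?_
    rw [Equiv.coe_mulLeft, MonoidHom.mul_apply, Units.val_mul]
  have h2 : ((φ y : ℂˣ) : ℂ) ≠ 1 := by
    intro h
    exact hφ (Units.ext h)
  have h3 : (((φ y : ℂˣ) : ℂ) - 1) * ∑ μ : A →* ℂˣ, ((μ y : ℂˣ) : ℂ) = 0 := by
    rw [sub_mul, h1, one_mul, sub_self]
  rcases mul_eq_zero.mp h3 with h | h
  · exact absurd (sub_eq_zero.mp h) h2
  · exact h

theorem char_mul_inv (μ : A →* ℂˣ) (y : A) :
    ((μ y : ℂˣ) : ℂ) * ((μ y⁻¹ : ℂˣ) : ℂ) = 1 := by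
  rw [← Units.val_mul, ← map_mul, mul_inv_cancel, map_one, Units.val_one]

end general

theorem t_dual {G : Type*} [Group G] [Finite G] {K : Subgroup G} [Fintype ↥K]
    [Fintype (↥K →* ℂˣ)]
    (hKab : ∀ a ∈ K, ∀ b ∈ K, a * b = b * a) :
    (∀ μ ν : K →* ℂˣ,
    ∑ y : K, ((μ y : ℂˣ) : ℂ) * ((ν y⁻¹ : ℂˣ) : ℂ) = (Nat.card K : ℂ) * ind μ ν) ∧
    (∀ y : K, y ≠ 1 → ∑ μ : K →* ℂˣ, ((μ y : ℂˣ) : ℂ) = 0) ∧
    (∀ y y' : K, ∑ μ : K →* ℂˣ, ((μ y : ℂˣ) : ℂ) * ((μ y'⁻¹ : ℂˣ) : ℂ) =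
      (Nat.card K : ℂ) * ind y y') ∧
    Fintype.card (↥K →* ℂˣ) = Nat.card K := by
  have hab : ∀ a b : ↥K, a * b = b * a := fun a b => Subtype.ext (hKab a a.2 b b.2)
  have hcard : Fintype.card (↥K →* ℂˣ) = Nat.card K := by
    rw [← Nat.card_eq_fintype_card]
    exact card_dual_eq hab
  refine ⟨?_, fun y hy => sum_dual_eq_zero hab hy, ?_, hcard⟩
  · intro μ ν
    by_cases hμν : μ = ν
    · subst hμν
      rw [ind_self, mul_one]
      have : ∀ y : K, ((μ y : ℂˣ) : ℂ) * ((μ y⁻¹ : ℂˣ) : ℂ) = 1 := fun y => char_mul_inv μ y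
      simp only [this]
      rw [Finset.sum_const, Finset.card_univ, Nat.card_eq_fintype_card]
      simp
    · rw [ind_of_ne hμν, mul_zero]
      have hne : μ * ν⁻¹ ≠ 1 := by
        intro h
        exact hμν (mul_inv_eq_one.mp h)
      have h0 := sum_char_eq_zero hne
      rw [← h0]
      refine Finset.sum_congr rfl fun y _ => ?_
      rw [MonoidHom.mul_apply, MonoidHom.inv_apply, Units.val_mul, map_inv]
  · intro y y'
    have e : ∀ μ : K →* ℂˣ, ((μ y : ℂˣ) : ℂ) * ((μ y'⁻¹ : ℂˣ) : ℂ) =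
        ((μ (y * y'⁻¹) : ℂˣ) : ℂ) := by
      intro μ
      rw [map_mul, Units.val_mul]
    simp only [e]
    by_cases hyy : y = y'
    · subst hyy
      rw [ind_self, mul_one, mul_inv_cancel]
      simp only [map_one, Units.val_one]
      rw [Finset.sum_const, Finset.card_univ, hcard]
      simp
    · rw [ind_of_ne hyy, mul_zero]
      apply sum_dual_eq_zero hab
      intro h
      exact hyy (mul_inv_eq_one.mp h)

end Cfsg.Agent.Helper90.BSW
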